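import Groth.Agent.VBPnLib.Pn
import Groth.Agent.VBPnLib.Basic
import Groth.Agent.S11484
import Groth.Agent.S1697
import Groth.Agent.S0010
import Groth.Agent.ProjBunLib.Ses
import Groth.Agent.ProjRecLib.Sections
import Groth.Agent.ResPropLib.VB
import Groth.Agent.PnCohLib.Hypersurface
import Groth.Agent.CurveAmpLib.Affine
import Groth.Agent.TwistEmbedLib.Main
import Groth.Agent.RegDualLib.Point
import Groth.Agent.EulerPnLib.Homs
import Groth.Agent.FLILib.Stalks
import Groth.Agent.HilbPolyLib.Twist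
import Groth.Agent.AmpleQSecLib.Main
import Groth.Agent.EulerPnLib.NullExist
import Groth.Agent.GenSecLib.Pn
import Groth.Agent.PerfLib.Strict
import Groth.Agent.MumfordLib.Induct
import Groth.Agent.CurvLib.EulerTensor

/-! A bundle of rank two which is a quotient of three line bundles on `P^n`, `n ≥ 3`, splits. -/

set_option autoImplicit false
set_option linter.style.haveILetI false
set_option linter.unusedSectionVars false
set_option backward.isDefEq.respectTransparency false
set_option maxHeartbeats 1000000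
universe u

noncomputable section

open CategoryTheory CategoryTheory.Limits AlgebraicGeometry TopologicalSpace Opposite
open AmpleLib (GenAt)

namespace SerreCI

variable {k : Type u} [Field k] {n : ℕ}

local notation "P" => CohB1.ProjSpace n k
local notation "O'" => Twist.twistProjSpace n k
local notation "F'" => fun t => CurvLib.tensorLeft' (Twist.twistProjSpace n k t)

/-- `O(t) ⊗ O(a) ≅ O(b)` for `b = t + a`. -/
def tw (t a b : ℤ) (h : t + a = b) : (CurvLib.tensorLeft' (O' t)).obj (O' a) ≅ O' b :=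
  (PicPnLib.twist_add n k t a).some ≪≫ eqToIso (congrArg O' h)

/-- Twisting twice. -/
def cancelTwist (t : ℤ) (M : (P).Modules) :
    (CurvLib.tensorLeft' (O' t)).obj ((CurvLib.tensorLeft' (O' (-t))).obj M) ≅ M :=
  (HilbPolyLib.assocIso _ _ _).symm ≪≫
    HilbPolyLib.congrLeft ((PicPnLib.twist_add n k t (-t)).some ≪≫ eqToIso (congrArg O' (add_neg_cancel t)) ≪≫
      (PicPnLib.twist_zero n k).some) M ≪≫ HilbPolyLib.unitLeft M

/-- Twists of sums of two line bundles. -/
def twBiprod (t a b : ℤ) : (CurvLib.tensorLeft' (O' t)).obj (O' a ⊞ O' b) ≅ O' (t + a) ⊞ O' (t + b) :=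
  haveI := VBPnLib.isEquivalence_twist k n t
  haveI : (CurvLib.tensorLeft' (O' t)).Additive := Functor.additive_of_preserves_binary_products _
  haveI : ∀ (A B : (CohB1.ProjSpace n k).Modules), PreservesBinaryBiproduct A B (CurvLib.tensorLeft' (O' t)) := fun A B => preservesBinaryBiproduct_of_preservesBinaryCoproduct _
  (CurvLib.tensorLeft' (O' t)).mapBiprod _ _ ≪≫ biprod.mapIso (tw t a _ rfl) (tw t b _ rfl)

section Cat

variable {C : Type*} [Category C] [Abelian C]

/-- A component which is an isomorphism can be cancelled. -/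
theorem nonempty_iso_of_component {K G E A B : C} {f : K ⟶ G} {g : G ⟶ E} (w : f ≫ g = 0)
    (hT : (ShortComplex.mk f g w).ShortExact) (pA : G ⟶ A) (pB : G ⟶ B) (iA : A ⟶ G) (iB : B ⟶ G)
    (htot : pA ≫ iA + pB ≫ iB = 𝟙 G) (hBB : iB ≫ pB = 𝟙 B) (hBA : iB ≫ pA = 0) (hα : IsIso (f ≫ pA)) :
    Nonempty (E ≅ B) := by
  haveI := hα
  haveI : Epi g := hT.epi_g
  let q : G ⟶ B := pB - pA ≫ inv (f ≫ pA) ≫ f ≫ pB
  have hfq : f ≫ q = 0 := by
    simp only [q, Preadditive.comp_sub]
    rw [← Category.assoc f pA, ← Category.assoc (f ≫ pA), IsIso.hom_inv_id, Category.id_comp, sub_self]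
  let g' : E ⟶ B := hT.gIsCokernel.desc (CokernelCofork.ofπ q hfq)
  have hg' : g ≫ g' = q := hT.gIsCokernel.fac (CokernelCofork.ofπ q hfq) WalkingParallelPair.one
  have hiq : iB ≫ q = 𝟙 B := by
    simp only [q, Preadditive.comp_sub, hBB, ← Category.assoc, hBA, zero_comp, sub_zero]
  refine ⟨⟨g', iB ≫ g, ?_, ?_⟩⟩
  · rw [← cancel_epi g, ← Category.assoc, hg', Category.comp_id]
    have h0 : f ≫ (pA ≫ iA + pB ≫ iB) ≫ g = 0 := by rw [htot, Category.id_comp, w]
    have h1 : f ≫ pB ≫ iB ≫ g = -(f ≫ pA ≫ iA ≫ g) := by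
      rw [eq_neg_iff_add_eq_zero, add_comm, ← h0]
      simp only [Preadditive.comp_add, Preadditive.add_comp, Category.assoc]
    simp only [q, Preadditive.sub_comp, Category.assoc]
    rw [h1]
    simp only [Preadditive.comp_neg, sub_neg_eq_add]
    rw [← Category.assoc f pA, IsIso.inv_hom_id_assoc]
    calc pB ≫ iB ≫ g + pA ≫ iA ≫ g = (pA ≫ iA + pB ≫ iB) ≫ g := by
          simp only [Preadditive.add_comp, Category.assoc]; abel
      _ = g := by rw [htot, Category.id_comp]
  · rw [Category.assoc, hg', hiq]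

/-- The middle component of a map into three summands. -/
theorem component_mid {K E A B D : C} {f : K ⟶ A ⊞ (B ⊞ D)} {g : A ⊞ (B ⊞ D) ⟶ E} (w : f ≫ g = 0)
    (hT : (ShortComplex.mk f g w).ShortExact) (hα : IsIso (f ≫ biprod.snd ≫ biprod.fst)) :
    Nonempty (E ≅ A ⊞ D) := by
  refine nonempty_iso_of_component w hT (biprod.snd ≫ biprod.fst)
    (biprod.lift biprod.fst (biprod.snd ≫ biprod.snd)) (biprod.inl ≫ biprod.inr)
    (biprod.desc biprod.inl (biprod.inr ≫ biprod.inr)) ?_ ?_ ?_ hα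
  · refine biprod.hom_ext _ _ ?_ ?_
    · simp
    · refine biprod.hom_ext _ _ ?_ ?_ <;> simp
  · refine biprod.hom_ext' _ _ ?_ ?_ <;> refine biprod.hom_ext _ _ ?_ ?_ <;> simp
  · refine biprod.hom_ext' _ _ ?_ ?_ <;> simp

/-- The last component of a map into three summands. -/
theorem component_last {K E A B D : C} {f : K ⟶ A ⊞ (B ⊞ D)} {g : A ⊞ (B ⊞ D) ⟶ E} (w : f ≫ g = 0)
    (hT : (ShortComplex.mk f g w).ShortExact) (hα : IsIso (f ≫ biprod.snd ≫ biprod.snd)) :
    Nonempty (E ≅ A ⊞ B) := by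
  refine nonempty_iso_of_component w hT (biprod.snd ≫ biprod.snd)
    (biprod.lift biprod.fst (biprod.snd ≫ biprod.fst)) (biprod.inr ≫ biprod.inr)
    (biprod.desc biprod.inl (biprod.inl ≫ biprod.inr)) ?_ ?_ ?_ hα
  · refine biprod.hom_ext _ _ ?_ ?_
    · simp
    · refine biprod.hom_ext _ _ ?_ ?_ <;> simp
  · refine biprod.hom_ext' _ _ ?_ ?_ <;> refine biprod.hom_ext _ _ ?_ ?_ <;> simp
  · refine biprod.hom_ext' _ _ ?_ ?_ <;> simp

end Cat

variable [IsAlgClosed k] [CharZero k]

/-- Maps into the quotient of an extension by `O` lift from twists. -/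
theorem exists_lift (hn : 2 ≤ n) {S : ShortComplex (P).Modules} (hS : S.ShortExact)
    (h₁ : S.X₁ ≅ Coh.structureModule P) (d : ℤ) (ρ : O' d ⟶ S.X₃) : ∃ φ : O' d ⟶ S.X₂, φ ≫ S.g = ρ := by
  haveI := hS.mono_f
  haveI := hS.epi_g
  let T : ShortComplex (P).Modules := ShortComplex.mk (pullback.lift S.f 0 (by rw [S.zero, zero_comp]) : S.X₁ ⟶ pullback S.g ρ)
    (pullback.snd S.g ρ) (pullback.lift_snd _ _ _)
  haveI hmono : Mono T.f := mono_of_mono_fac (pullback.lift_fst S.f 0 (by rw [S.zero, zero_comp]))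
  have hT : T.ShortExact :=
    { exact := by
        refine ShortComplex.exact_of_f_is_kernel _ (KernelFork.IsLimit.ofι' _ _ fun {W} g hg => ?_)
        have hg' : g ≫ pullback.snd S.g ρ = 0 := hg
        have h0 : (g ≫ pullback.fst S.g ρ) ≫ S.g = 0 := by
          rw [Category.assoc, pullback.condition, reassoc_of% hg', zero_comp]
        refine ⟨hS.exact.lift _ h0, ?_⟩
        refine pullback.hom_ext ?_ ?_
        · show (hS.exact.lift _ h0 ≫ pullback.lift S.f 0 _) ≫ pullback.fst S.g ρ = g ≫ pullback.fst S.g ρ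
          rw [Category.assoc, pullback.lift_fst]
          exact hS.exact.lift_f _ h0
        · show (hS.exact.lift _ h0 ≫ pullback.lift S.f 0 _) ≫ pullback.snd S.g ρ = g ≫ pullback.snd S.g ρ
          rw [Category.assoc, pullback.lift_snd, comp_zero, hg']
      mono_f := hmono
      epi_g := Abelian.epi_pullback_of_epi_f S.g ρ }
  obtain ⟨z⟩ := PicPnLib.twist_zero n k
  obtain ⟨σ⟩ := Groth.Agent.S11484.result k n hn 0 d T hT ⟨h₁ ≪≫ z.symm⟩ ⟨Iso.refl _⟩
  refine ⟨(σ.s : O' d ⟶ pullback S.g ρ) ≫ pullback.fst S.g ρ, ?_⟩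
  have hs : (σ.s : O' d ⟶ pullback S.g ρ) ≫ pullback.snd S.g ρ = 𝟙 _ := σ.s_g
  rw [Category.assoc, pullback.condition, reassoc_of% hs]

theorem not_genAt_zero {M : (P).Modules} (x : P) :
    ¬ GenAt M (0 : Γ(M, ⊤)) (show x ∈ (⊤ : (P).Opens) from trivial) := fun h => by
  have h1 := h.1 (a₁ := 0) (a₂ := 1) (by simp)
  exact zero_ne_one h1

/-- Three sections of twists on `P^n`, `n ≥ 3`, generating at every point: one is an isomorphism. -/
theorem exists_isIso_section (hn : 3 ≤ n) (d : Fin 3 → ℤ) (u : ∀ j, Coh.structureModule P ⟶ O' (d j))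
    (h : ∀ x : P, ∃ j, GenAt (O' (d j)) ((u j).app ⊤ (1 : Γ(P, ⊤))) (show x ∈ (⊤ : (P).Opens) from trivial)) :
    ∃ j, IsIso (u j) := by
  by_contra hne
  simp only [not_exists] at hne
  haveI : IsProper (CohB1.ProjSpace.toSpec n k) := MumfordLib.isProper_projSpace (n := n) k
  let U : Fin 3 → (P).Opens := fun j => TwistLib.genSet (PicPnLib.twist_inv n k (d j)) ((u j).app ⊤ (1 : Γ(P, ⊤)))
  have hzero : ∀ j, u j = 0 → IsAffineOpen (U j) := fun j hj => by
    have : U j = ⊥ := by
      refine le_bot_iff.1 fun x hx => ?_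
      refine not_genAt_zero (M := O' (d j)) x ?_
      have hx' : GenAt (O' (d j)) ((u j).app ⊤ (1 : Γ(P, ⊤))) (show x ∈ (⊤ : (P).Opens) from trivial) := hx
      rw [hj] at hx'
      exact hx'
    rw [this]
    exact isAffineOpen_bot _
  have haff : ∀ j, IsAffineOpen (U j) := fun j => by
    rcases lt_trichotomy (d j) 0 with hd | hd | hd
    · haveI := (PnCohLib.subsingleton_HH_twist (n := n) (R := k) (d j) 0 (by omega) (by omega))
      haveI := VBPnLib.subsingleton_hom k (O' (d j)) inferInstance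
      exact hzero j (Subsingleton.elim _ _)
    · obtain ⟨e⟩ := PicPnLib.twist_zero n k
      let e' : O' (d j) ≅ Coh.structureModule P := eqToIso (congrArg O' hd) ≪≫ e
      obtain ⟨c, hc⟩ := EulerPnLib.exists_scalar n k (M := O' (d j)) (PicPnLib.twist_inv n k _) (e'.hom ≫ u j)
      by_cases hc0 : c = 0
      · refine hzero j ?_
        rw [hc0, zero_smul] at hc
        rw [← cancel_epi e'.hom, hc, comp_zero]
      · refine absurd ?_ (hne j)
        haveI : IsIso (c • 𝟙 (O' (d j))) := ⟨c⁻¹ • 𝟙 _, by simp [smul_smul, hc0], by simp [smul_smul, hc0]⟩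
        rw [show u j = e'.inv ≫ (c • 𝟙 (O' (d j))) by rw [← hc, Iso.inv_hom_id_assoc]]
        infer_instance
    · have hA : CohB1.IsAmple (O' (d j)) := by
        have := TwistEmbed.isAmple_twist (K := k) (n := n) (d := (d j).toNat) (by omega)
        rwa [Int.toNat_of_nonneg hd.le] at this
      exact CurveAmpLib.isAffineOpen_genSet (CohB1.ProjSpace.toSpec n k) _ hA _
  have hcov : ⨆ j, U j = ⊤ := by
    refine top_le_iff.1 fun x _ => ?_
    obtain ⟨j, hj⟩ := h x
    exact Opens.mem_iSup.2 ⟨j, hj⟩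
  haveI : Coh.IsQCoh (O' (-((n : ℤ) + 1))) := (CurvLib.isCoh_of_locFree (VBPnLib.twist_rank k n _)).1
  haveI : (P).IsSeparated := ⟨by rw [← terminal.comp_from (CohB1.ProjSpace.toSpec n k)]; infer_instance⟩
  haveI := Groth.Agent.S0010.result P 3 U haff hcov (fun V W hV hW => hV.inf hW) (O' (-((n : ℤ) + 1))) n hn
  have h1 := PnCohLib.finrank_top_twist (N := n) k (by omega) (-((n : ℤ) + 1))
  rw [Module.finrank_zero_of_subsingleton, show (-(-((n : ℤ) + 1)) - 1).toNat = n by omega, Nat.choose_self] at h1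
  exact zero_ne_one h1

/-- A nowhere degenerate map from `O` to three twists has an invertible component. -/
theorem exists_component (hn : 3 ≤ n) (d₀ d₁ d₂ : ℤ) {E : (P).Modules} (hE : FlatMod.IsFinLocFreeOfRank 2 E)
    (f : Coh.structureModule P ⟶ O' d₀ ⊞ (O' d₁ ⊞ O' d₂)) (g : O' d₀ ⊞ (O' d₁ ⊞ O' d₂) ⟶ E) (w : f ≫ g = 0)
    (hT : (ShortComplex.mk f g w).ShortExact) :
    ∃ a b : ℤ, Nonempty (E ≅ O' a ⊞ O' b) := by
  let d : Fin 3 → ℤ := ![d₀, d₁, d₂]
  let G := O' d₀ ⊞ (O' d₁ ⊞ O' d₂)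
  let pr : ∀ j, G ⟶ O' (d j) := fun j => match j with
    | 0 => biprod.fst
    | 1 => biprod.snd ≫ biprod.fst
    | 2 => biprod.snd ≫ biprod.snd
  let inj : ∀ j, O' (d j) ⟶ G := fun j => match j with
    | 0 => biprod.inl
    | 1 => biprod.inl ≫ biprod.inr
    | 2 => biprod.inr ≫ biprod.inr
  have htot : pr 0 ≫ inj 0 + (pr 1 ≫ inj 1 + pr 2 ≫ inj 2) = 𝟙 G := by
    refine biprod.hom_ext _ _ ?_ ?_
    · simp [pr, inj, G, d]
    · refine biprod.hom_ext _ _ ?_ ?_ <;> simp [pr, inj, G, d]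
  let u : ∀ j, Coh.structureModule P ⟶ O' (d j) := fun j => f ≫ pr j
  have hf : f = u 0 ≫ inj 0 + (u 1 ≫ inj 1 + u 2 ≫ inj 2) := by
    conv_lhs => rw [← Category.comp_id f, ← htot]
    simp only [u, Preadditive.comp_add, Category.assoc]
  obtain ⟨j, hj⟩ := exists_isIso_section hn d u fun x => by
    obtain ⟨σ⟩ := ProjBunLib.nonempty_splitting hT hE x
    let r : ↑((DerSch.stalkFunctor P x).obj G) →ₗ[(P).presheaf.stalk x]
        ↑((DerSch.stalkFunctor P x).obj (Coh.structureModule P)) := σ.r.hom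
    have hr : ∀ a, r (FLI.sMap f x a) = a := fun a => congr($(σ.f_r) a)
    let one : (DerSch.stalkFunctor P x).obj (Coh.structureModule P) :=
      (Coh.structureModule P).presheaf.germ ⊤ x trivial (1 : Γ(P, ⊤))
    have hgen1 : Function.Bijective fun c : (P).presheaf.stalk x => c • one :=
      (AmpleLib.one_genOn (X := P) ⊤).genAt (x := x) trivial
    have himg : ∀ i, FLI.sMap (u i) x one = (O' (d i)).presheaf.germ ⊤ x trivial ((u i).app ⊤ (1 : Γ(P, ⊤))) :=
      fun i => DerSch.stalkFunctor_map_germ x (u i) ⊤ trivial _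
    -- generators of the three lines
    have hline : ∀ i, ∃ b : (DerSch.stalkFunctor P x).obj (O' (d i)),
        Function.Bijective fun c : (P).presheaf.stalk x => c • b := fun i => by
      obtain ⟨e⟩ := ProjBunLib.free_stalk_of_rank (VBPnLib.twist_rank k n (d i)) x
      let e' := e ≪≫ₗ LinearEquiv.funUnique (Fin 1) ((P).presheaf.stalk x) ((P).presheaf.stalk x)
      refine ⟨e'.symm 1, ?_⟩
      have : (fun c : (P).presheaf.stalk x => c • e'.symm 1) = e'.symm := funext fun c => by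
        rw [← map_smul, smul_eq_mul, mul_one]
      rw [this]
      exact e'.symm.bijective
    choose b hb using hline
    choose c hc using fun i => (hb i).2 (FLI.sMap (u i) x one)
    choose e he using fun i => hgen1.2 (r (FLI.sMap (inj i) x (b i)))
    have hsum : c 0 * e 0 + (c 1 * e 1 + c 2 * e 2) = 1 := by
      refine hgen1.1 ?_
      have h1 : ∀ i, (c i * e i) • one = r (FLI.sMap (u i ≫ inj i) x one) := fun i => by
        rw [FLI.sMap_comp, ← hc i, map_smul, map_smul, ← he i, smul_smul]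
      show (c 0 * e 0 + (c 1 * e 1 + c 2 * e 2)) • one = (1 : (P).presheaf.stalk x) • one
      rw [add_smul, add_smul, h1, h1, h1, one_smul, ← map_add, ← map_add]
      refine Eq.trans ?_ (hr one)
      congr 1
      conv_rhs => rw [hf]
      simp only [FLI.sMap, Functor.map_add, ModuleCat.hom_add, LinearMap.add_apply]
      rfl
    have hu : ∃ i, IsUnit (c i) := by
      by_contra hno
      simp only [not_exists] at hno
      have hm : ∀ i, c i * e i ∈ IsLocalRing.maximalIdeal ((P).presheaf.stalk x) := fun i =>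
        Ideal.mul_mem_right _ _ ((IsLocalRing.mem_maximalIdeal _).2 (hno i))
      have := Ideal.add_mem _ (hm 0) (Ideal.add_mem _ (hm 1) (hm 2))
      rw [hsum] at this
      exact (IsLocalRing.maximalIdeal.isMaximal _).ne_top ((Ideal.eq_top_iff_one _).2 this)
    obtain ⟨i, hi⟩ := hu
    refine ⟨i, ?_⟩
    show Function.Bijective fun a : (P).presheaf.stalk x =>
      a • (O' (d i)).presheaf.germ ⊤ x trivial ((u i).app ⊤ (1 : Γ(P, ⊤)))
    rw [← himg i, ← hc i]
    have : (fun a : (P).presheaf.stalk x => a • c i • b i) = (fun a => a • b i) ∘ fun a => a * c i :=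
      funext fun a => smul_smul a (c i) (b i)
    rw [this]
    exact (hb i).comp hi.unit.mulRight.bijective
  fin_cases j
  · obtain ⟨e⟩ := nonempty_iso_of_component w hT (biprod.fst : G ⟶ O' d₀) biprod.snd biprod.inl biprod.inr
      biprod.total (by simp) (by simp) hj
    exact ⟨d₁, d₂, ⟨e⟩⟩
  · obtain ⟨e⟩ := component_mid w hT hj
    exact ⟨d₀, d₂, ⟨e⟩⟩
  · obtain ⟨e⟩ := component_last w hT hj
    exact ⟨d₀, d₁, ⟨e⟩⟩

/-- A rank two quotient of three twists splits. -/
theorem splits_of_epi (hn : 3 ≤ n) (p q r : ℤ) {E : (P).Modules} (hE : FlatMod.IsFinLocFreeOfRank 2 E)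
    (g : O' p ⊞ (O' q ⊞ O' r) ⟶ E) [Epi g] : ∃ a b : ℤ, Nonempty (E ≅ O' a ⊞ O' b) := by
  haveI : IsProper (P ↘ Spec (CommRingCat.of k)) := MumfordLib.isProper_projSpace (n := n) k
  haveI := CurvLib.isNoetherian k (X := P)
  haveI := PicPnLib.isIntegral_projSpace n k
  have h12 : FlatMod.IsFinLocFreeOfRank 2 (O' q ⊞ O' r) :=
    ProjRecLib.rank_two_biprod (VBPnLib.twist_rank k n q) (VBPnLib.twist_rank k n r)
  have hG : FlatMod.IsFinLocFree (O' p ⊞ (O' q ⊞ O' r)) :=
    Groth.Agent.PerfLib.isFinLocFree_biprod (CurveVBLib.isFinLocFree_of_rank (VBPnLib.twist_rank k n p))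
      (CurveVBLib.isFinLocFree_of_rank h12)
  have hK := ResPropLib.isFinLocFree_kernel g hG (CurveVBLib.isFinLocFree_of_rank hE)
  let S : ShortComplex (P).Modules := ShortComplex.mk (kernel.ι g) g (kernel.condition g)
  have hS : S.ShortExact :=
    { exact := ShortComplex.exact_of_f_is_kernel _ (kernelIsKernel g)
      mono_f := inferInstanceAs (Mono (kernel.ι g))
      epi_g := inferInstanceAs (Epi g) }
  let B : ShortComplex (P).Modules := ShortComplex.mk (biprod.inl : O' p ⟶ O' p ⊞ (O' q ⊞ O' r)) biprod.snd biprod.inl_snd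
  have hB : B.ShortExact := (ShortComplex.Splitting.ofHasBinaryBiproduct _ _).shortExact
  have hGc : Coh.IsCoh (O' p ⊞ (O' q ⊞ O' r)) := Groth.Agent.PerfLib.isCoh_of_isFinLocFree hG
  have r1 := CurvLib.genRank_add (S := S) hS (Groth.Agent.PerfLib.isCoh_of_isFinLocFree hK) hGc
    (CurvLib.isCoh_of_locFree hE)
  have r2 := CurvLib.genRank_add (S := B) hB (CurvLib.isCoh_of_locFree (VBPnLib.twist_rank k n p)) hGc
    (CurvLib.isCoh_of_locFree h12)
  have hK1 : CurvLib.genRank (kernel g) = 1 := by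
    change CurvLib.genRank (O' p ⊞ (O' q ⊞ O' r)) = CurvLib.genRank (kernel g) + CurvLib.genRank E at r1
    change CurvLib.genRank (O' p ⊞ (O' q ⊞ O' r)) = CurvLib.genRank (O' p) + CurvLib.genRank (O' q ⊞ O' r) at r2
    rw [CurveVBLib.genRank_eq hE] at r1
    rw [CurveVBLib.genRank_eq (VBPnLib.twist_rank k n p), CurveVBLib.genRank_eq h12] at r2
    omega
  have hKr : FlatMod.IsFinLocFreeOfRank 1 (kernel g) := hK1 ▸ CurveVBLib.rank_genRank hK
  obtain ⟨e, ⟨ie⟩⟩ := Groth.Agent.S1697.result k n (kernel g) (AmpleQSecLib.isInvertible_of_rank_one hKr)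
  haveI := VBPnLib.isEquivalence_twist k n (-e)
  haveI := VBPnLib.isEquivalence_twist k n e
  haveI : (CurvLib.tensorLeft' (O' (-e))).Additive := Functor.additive_of_preserves_binary_products _
  haveI : (CurvLib.tensorLeft' (O' e)).Additive := Functor.additive_of_preserves_binary_products _
  let F := CurvLib.tensorLeft' (O' (-e))
  let α : Coh.structureModule P ≅ F.obj (kernel g) :=
    (F.mapIso ie ≪≫ tw (-e) e 0 (neg_add_cancel e) ≪≫ (PicPnLib.twist_zero n k).some).symm
  haveI : ∀ (A B : (CohB1.ProjSpace n k).Modules), PreservesBinaryBiproduct A B F := fun A B => preservesBinaryBiproduct_of_preservesBinaryCoproduct _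
  let β : F.obj (O' p ⊞ (O' q ⊞ O' r)) ≅ O' (-e + p) ⊞ (O' (-e + q) ⊞ O' (-e + r)) :=
    F.mapBiprod _ _ ≪≫ biprod.mapIso (tw (-e) p _ rfl) (twBiprod (-e) q r)
  let γ : E ≅ (CurvLib.tensorLeft' (O' e)).obj (F.obj E) := (cancelTwist e E).symm
  have hF : (S.map F).ShortExact := hS.map_of_exact F
  let T : ShortComplex (P).Modules := ShortComplex.mk (α.hom ≫ F.map (kernel.ι g) ≫ β.hom) (β.inv ≫ F.map g) (by
    simp only [Category.assoc, Iso.hom_inv_id_assoc, ← Functor.map_comp, kernel.condition, Functor.map_zero, comp_zero])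
  have hT : T.ShortExact := ShortComplex.shortExact_of_iso
    (ShortComplex.isoMk α.symm β (Iso.refl _) (by simp [T, S]) (by simp [T, S]) : S.map F ≅ T) hF
  have hEe : FlatMod.IsFinLocFreeOfRank 2 (F.obj E) :=
    EulerPnLib.rank_of_iso (show FlatMod.IsFinLocFreeOfRank 2 (CohB1.tensorMod E (O' (-e))) by
      simpa using HopfIneqLib.locFree_tensor hE (VBPnLib.twist_rank k n (-e))) (HilbPolyLib.swapIso _ _)
  obtain ⟨a, b, ⟨i⟩⟩ := exists_component hn _ _ _ hEe T.f T.g T.zero hT
  exact ⟨e + a, e + b, ⟨γ ≪≫ (CurvLib.tensorLeft' (O' e)).mapIso i ≪≫ twBiprod e a b⟩⟩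

end SerreCI
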